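import Groth.Agent.CAlg4.PicRegular
import Groth.Agent.CAlg1.Regular
import Mathlib.RingTheory.UniqueFactorizationDomain.Kaplansky
import Mathlib

/-! Regular local rings are factorial. -/

set_option autoImplicit false
set_option linter.style.haveILetI false

universe u

namespace Groth.Agent.RegUFD52

open IsLocalRing

theorem eq_of_le_minimal_principal {A : Type u} [CommRing A] [IsDomain A] [IsNoetherianRing A]
    {y : A} {Q P : Ideal A} (hQ : Q ∈ (Ideal.span {y}).minimalPrimes) [P.IsPrime] (hP : P ≠ ⊥) (hle : P ≤ Q) :
    P = Q := by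
  haveI := hQ.1.1
  by_contra hne
  have h1 : Q.height ≤ 1 := Ideal.height_le_one_of_isPrincipal_of_mem_minimalPrimes (Ideal.span {y}) _ hQ
  have h2 := Ideal.height_strict_mono_of_isPrime (J := Q) (lt_of_le_of_ne hle hne)
  have h3 := Ideal.height_strict_mono_of_isPrime (I := (⊥ : Ideal A)) (J := P) (bot_lt_iff_ne_bot.2 hP)
  rw [Ideal.height_bot] at h3
  exact absurd (lt_of_le_of_lt (Order.one_le_iff_pos.2 h3) h2) (not_lt.2 h1)

theorem invertible_of_mul_eq_span {A : Type u} [CommRing A] [IsDomain A] (I J : Ideal A) {y : A} (hy : y ≠ 0)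
    (h : I * J = Ideal.span {y}) : Module.Invertible A I := by
  let K := FractionRing A
  let f : A →ₐ[A] K := Algebra.ofId A K
  have hf : Function.Injective f.toLinearMap := IsFractionRing.injective A K
  let U : Submodule A K := Submodule.map f.toLinearMap I
  let V : Submodule A K := Submodule.map f.toLinearMap J * Submodule.span A {(algebraMap A K y)⁻¹}
  have hy' : algebraMap A K y ≠ 0 := fun h0 => hy (IsFractionRing.injective A K (by rw [h0, map_zero]))
  have hUV : U * V = 1 := by
    rw [← mul_assoc, ← Submodule.map_mul, h, Ideal.span, Submodule.map_span, Set.image_singleton,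
      Submodule.span_mul_span, Set.singleton_mul_singleton, Submodule.one_eq_span]
    congr 2
    exact mul_inv_cancel₀ hy'
  haveI : Module.Invertible A U := inferInstanceAs
    (Module.Invertible A ((Units.mkOfMulEqOne U V hUV : (Submodule A K)ˣ) : Submodule A K))
  exact Module.Invertible.congr (Submodule.equivMapOfInjective f.toLinearMap hf I).symm

theorem ufm_aux : ∀ (n : ℕ) (R : Type u) [CommRing R] [IsRegularLocalRing R] [IsDomain R],
    (maximalIdeal R).height ≤ n → UniqueFactorizationMonoid R := by
  intro n
  induction n using Nat.strong_induction_on with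
  | _ n ih =>
    intro R _ _ _ hdim
    by_cases hm : maximalIdeal R = ⊥
    · exact UniqueFactorizationMonoid.iff_exists_prime_mem_of_isPrime.2 fun P hP hPp =>
        absurd (le_bot_iff.1 ((le_maximalIdeal hPp.ne_top).trans hm.le)) hP
    obtain ⟨x, hx, hx2⟩ : ∃ x ∈ maximalIdeal R, x ∉ maximalIdeal R ^ 2 := by
      by_contra hcon
      push Not at hcon
      refine hm (Submodule.eq_bot_of_le_smul_of_le_jacobson_bot (maximalIdeal R) _ (IsNoetherian.noetherian _) ?_
        (maximalIdeal_le_jacobson ⊥))
      rw [smul_eq_mul, ← pow_two]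
      exact hcon
    have hx0 : x ≠ 0 := fun h => hx2 (h ▸ zero_mem _)
    haveI := (Groth.Agent.CAlg1.regular_quotient_singleton hx hx2).1
    haveI := Groth.Agent.CAlg1.isDomain_regular (R ⧸ Ideal.span {x})
    have hxp : Prime x := (Ideal.span_singleton_prime hx0).1
      ((Ideal.Quotient.isDomain_iff_prime _).1 inferInstance)
    let S := Submonoid.powers x
    have hS : S ≤ nonZeroDivisors R := powers_le_nonZeroDivisors_of_noZeroDivisors hx0
    let A := Localization S
    haveI : IsDomain A := IsLocalization.isDomain_localization hS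
    haveI : IsNoetherianRing A := IsLocalization.isNoetherianRing S A inferInstance
    haveI : Subsingleton (CommRing.Pic A) := Groth.Agent.CAlg4.PicRegular.subsingleton_pic S
    -- the localization is factorial
    have hUA : UniqueFactorizationMonoid A := by
      refine UniqueFactorizationMonoid.iff_exists_prime_mem_of_isPrime.2 fun Q hQ hQp => ?_
      obtain ⟨y, hyQ, hy⟩ := Q.exists_mem_ne_zero_of_ne_bot hQ
      haveI := hQp
      obtain ⟨Q₀, hQ₀, hle⟩ := Ideal.exists_minimalPrimes_le ((Ideal.span_singleton_le_iff_mem Q).2 hyQ)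
      haveI := hQ₀.1.1
      have hy0 : y ∈ Q₀ := hQ₀.1.2 (Ideal.mem_span_singleton_self y)
      have hQ₀0 : Q₀ ≠ ⊥ := fun h => hy (by simpa [h] using hy0)
      have hloc : ∀ (q : Ideal A) [q.IsMaximal], ∃ g ∈ Q₀, ∃ s ∉ q, ∀ z ∈ Q₀, ∃ c, s * z = g * c := by
        intro q _
        let T := Localization.AtPrime q
        let p := q.comap (algebraMap R A)
        haveI : IsLocalization.AtPrime T p :=
          IsLocalization.isLocalization_isLocalization_atPrime_isLocalization S T q
        haveI := Groth.Agent.EGA4H10.regular_localization R p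
        haveI : IsRegularLocalRing T := IsRegularLocalRing.of_ringEquiv
          (IsLocalization.algEquiv p.primeCompl (Localization.AtPrime p) T).toRingEquiv
        haveI : IsDomain T := IsLocalization.isDomain_localization q.primeCompl_le_nonZeroDivisors
        have hxq : x ∉ p := fun h => (Ideal.IsPrime.ne_top' : q ≠ ⊤)
          (Ideal.eq_top_of_isUnit_mem _ h (IsLocalization.map_units A (⟨x, Submonoid.mem_powers x⟩ : S)))
        have hlt : p < maximalIdeal R := lt_of_le_of_ne (le_maximalIdeal Ideal.IsPrime.ne_top') fun h => hxq (h ▸ hx)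
        have hh : (maximalIdeal T).height < n := by
          rw [← IsLocalization.height_under p.primeCompl (maximalIdeal T)]
          refine lt_of_lt_of_le ?_ hdim
          rw [show (maximalIdeal T).under R = p from IsLocalization.AtPrime.under_maximalIdeal T p]
          exact Ideal.height_strict_mono_of_isPrime hlt
        obtain ⟨m, hm'⟩ := ENat.ne_top_iff_exists.1 hh.ne_top
        have hUT : UniqueFactorizationMonoid T := ih m (by rw [← hm'] at hh; exact_mod_cast hh) T hm'.ge
        obtain ⟨π, hπ⟩ : ∃ π, Ideal.map (algebraMap A T) Q₀ = Ideal.span {π} := by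
          by_cases hd : Disjoint (q.primeCompl : Set A) (Q₀ : Set A)
          · have hp' := IsLocalization.isPrime_of_isPrime_disjoint q.primeCompl T Q₀ inferInstance hd
            have hne : Ideal.map (algebraMap A T) Q₀ ≠ ⊥ := fun h =>
              hQ₀0 ((Ideal.map_eq_bot_iff_of_injective (IsLocalization.injective T q.primeCompl_le_nonZeroDivisors)).1 h)
            obtain ⟨π, hπm, hπ⟩ := hp'.exists_mem_prime_of_ne_bot hne
            haveI := (Ideal.span_singleton_prime hπ.ne_zero).2 hπ
            haveI := (inferInstance : (Ideal.span {π}).IsPrime).comap (algebraMap A T)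
            refine ⟨π, ?_⟩
            have : Ideal.comap (algebraMap A T) (Ideal.span {π}) = Q₀ := by
              refine eq_of_le_minimal_principal hQ₀ (fun h => hπ.ne_zero ?_) ?_
              · have h' := IsLocalization.map_under q.primeCompl T (Ideal.span {π})
                rw [Ideal.under_def, h, Ideal.map_bot, eq_comm, Ideal.span_singleton_eq_bot] at h'
                exact h'
              · rw [← IsLocalization.under_map_of_isPrime_disjoint q.primeCompl T inferInstance hd, Ideal.under_def]
                exact Ideal.comap_mono ((Ideal.span_singleton_le_iff_mem _).2 hπm)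
            rw [← this]
            exact IsLocalization.map_under q.primeCompl T _
          · obtain ⟨a, ha, haQ⟩ := Set.not_disjoint_iff.1 hd
            exact ⟨1, (Ideal.eq_top_of_isUnit_mem _ (Ideal.mem_map_of_mem _ haQ)
              (IsLocalization.map_units T ⟨a, ha⟩)).trans Ideal.span_singleton_one.symm⟩
        have hπm : π ∈ Ideal.map (algebraMap A T) Q₀ := hπ ▸ Ideal.mem_span_singleton_self π
        obtain ⟨⟨g, t⟩, hgt⟩ := (IsLocalization.mem_map_algebraMap_iff q.primeCompl T).1 hπm
        have hdvd : ∀ z ∈ Q₀, algebraMap A T g.1 ∣ algebraMap A T z := fun z hz => by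
          rw [← hgt, (IsLocalization.map_units T t).mul_right_dvd, ← Ideal.mem_span_singleton, ← hπ]
          exact Ideal.mem_map_of_mem _ hz
        obtain ⟨F, hF⟩ := (IsNoetherian.noetherian Q₀)
        have hs : ∀ z ∈ Q₀, ∃ s ∉ q, ∃ c, s * z = g.1 * c := fun z hz => by
          obtain ⟨c, hc⟩ := hdvd z hz
          obtain ⟨⟨c', u⟩, hu⟩ := IsLocalization.surj q.primeCompl c
          obtain ⟨w, hw⟩ := (IsLocalization.eq_iff_exists q.primeCompl T).1
            (show algebraMap A T (u.1 * z) = algebraMap A T (g.1 * c') by
              rw [map_mul, map_mul, ← hu, hc]; ring)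
          exact ⟨w.1 * u.1, (w * u).2, w.1 * c', by rw [mul_assoc, hw]; ring⟩
        choose sfun hsfun cfun hcfun using hs
        refine ⟨g.1, g.2, ∏ z ∈ F.attach, sfun z.1 (hF ▸ Submodule.subset_span z.2),
          fun h => ?_, fun z hz => ?_⟩
        · obtain ⟨z, _, hz⟩ := (Ideal.IsPrime.prod_mem_iff (p := q)).1 h
          exact hsfun _ _ hz
        · rw [← hF] at hz
          induction hz using Submodule.span_induction with
          | mem z hz =>
            obtain ⟨r, hr⟩ := Finset.dvd_prod_of_mem (fun z : F => sfun z.1 (hF ▸ Submodule.subset_span z.2))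
              (Finset.mem_attach F ⟨z, hz⟩)
            exact ⟨r * cfun z (hF ▸ Submodule.subset_span hz), by rw [hr, mul_comm _ r, mul_assoc, hcfun]; ring⟩
          | zero => exact ⟨0, by simp⟩
          | add a b _ _ ha hb =>
            obtain ⟨c, hc⟩ := ha
            obtain ⟨d, hd⟩ := hb
            exact ⟨c + d, by rw [mul_add, hc, hd, mul_add]⟩
          | smul r a _ ha =>
            obtain ⟨c, hc⟩ := ha
            exact ⟨r * c, by rw [smul_eq_mul, mul_left_comm, hc]; ring⟩
      let J : Ideal A := (Ideal.span {y}).colon (Q₀ : Set A)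
      have hIJ : Q₀ * J = Ideal.span {y} := by
        apply le_antisymm
        · refine Ideal.mul_le.2 fun a ha b hb => ?_
          rw [mul_comm]
          exact Submodule.mem_colon.1 hb a ha
        · rw [Ideal.span_singleton_le_iff_mem]
          by_contra hcon
          let E : Ideal A := (Q₀ * J).colon {y}
          obtain ⟨q, hq, hEq⟩ := E.exists_le_maximal fun h => hcon (by
            have h1 : (1 : A) ∈ E := h ▸ Submodule.mem_top
            simpa [E, Submodule.mem_colon_singleton] using h1)
          obtain ⟨g, hg, s, hs, hgs⟩ := hloc q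
          obtain ⟨c, hc⟩ := hgs y hy0
          have hcJ : s * c ∈ J := Submodule.mem_colon.2 fun z hz => by
            obtain ⟨d, hd⟩ := hgs z hz
            rw [smul_eq_mul, Ideal.mem_span_singleton]
            refine ⟨s * d, ?_⟩
            linear_combination c * hd - d * hc
          have hmem : s * s ∈ E := Submodule.mem_colon_singleton.2 (by
            rw [smul_eq_mul, show s * s * y = g * (s * c) by linear_combination s * hc]
            exact Ideal.mul_mem_mul hg hcJ)
          exact (hq.isPrime.mem_or_mem (hEq hmem)).elim hs hs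
      haveI : Module.Invertible A Q₀ := invertible_of_mul_eq_span Q₀ J hy hIJ
      haveI : Module.Free A Q₀ := inferInstance
      obtain ⟨π, hπ⟩ := ((Submodule.rank_le_one_iff_isPrincipal Q₀).1
        ((Submodule.rank_le Q₀).trans (Module.rank_self A).le)).principal
      have hπ0 : π ≠ 0 := fun h => hQ₀0 (by rw [hπ, h, Ideal.submodule_span_eq, Ideal.span_singleton_eq_bot.2 rfl])
      exact ⟨π, hle (hπ ▸ Submodule.mem_span_singleton_self π), (Ideal.span_singleton_prime hπ0).1 (by rw [← Ideal.submodule_span_eq, ← hπ]; infer_instance)⟩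
    exact (UniqueFactorizationMonoid.iff_localizationAway_of_prime hxp).2 hUA

theorem ufm_of_regular (R : Type u) [CommRing R] [IsRegularLocalRing R] [IsDomain R] :
    UniqueFactorizationMonoid R := by
  obtain ⟨n, hn⟩ := ENat.ne_top_iff_exists.1 (Ideal.height_ne_top (IsLocalRing.maximalIdeal.isMaximal R).ne_top)
  exact ufm_aux n R hn.ge

end Groth.Agent.RegUFD52
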