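import Mathlib.RingTheory.UniqueFactorizationDomain.Basic
import Mathlib

/-! Elements all whose prime divisors lie in a given family of primes. -/

set_option autoImplicit false

namespace Groth.Agent.RegUFD52

theorem exists_unit_eq_prod {R : Type*} [CommRing R] [IsDomain R] [UniqueFactorizationMonoid R] {r : ℕ}
    (f : Fin r → R) : ∀ d : R, d ≠ 0 → (∀ π : R, Prime π → π ∣ d → ∃ i, Associated π (f i)) →
      ∃ (u : Rˣ) (e : Fin r → ℕ), d = (u : R) * ∏ i, f i ^ e i := by
  intro d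
  induction d using UniqueFactorizationMonoid.induction_on_prime with
  | h₁ => exact fun h => absurd rfl h
  | h₂ a ha => exact fun _ _ => ⟨ha.unit, 0, by simp⟩
  | h₃ a p ha hp ih =>
    intro _ hdiv
    obtain ⟨u, e, rfl⟩ := ih ha fun π hπ hπd => hdiv π hπ (hπd.mul_left p)
    obtain ⟨i, hi⟩ := hdiv p hp (dvd_mul_right p _)
    obtain ⟨v, hv⟩ := hi.symm
    refine ⟨v * u, e + Pi.single i 1, ?_⟩
    simp only [Pi.add_apply, pow_add, Finset.prod_mul_distrib, Units.val_mul]
    rw [show ∏ j, f j ^ (Pi.single i 1 : Fin r → ℕ) j = f i from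
      (Finset.prod_eq_single i (fun j _ hj => by rw [Pi.single_eq_of_ne hj, pow_zero]) (by simp)).trans
        (by rw [Pi.single_eq_same, pow_one]), ← hv]
    ring

theorem le_of_unit_mul_prod_eq {R : Type*} [CommRing R] [IsDomain R] {r : ℕ} (f : Fin r → R)
    (hf : ∀ i, Prime (f i)) (hfa : ∀ i j, Associated (f i) (f j) → i = j) (u : Rˣ) (c c' : Fin r → ℕ)
    (h : (u : R) * ∏ i, f i ^ c i = ∏ i, f i ^ c' i) (j : Fin r) : c' j ≤ c j := by
  have h1 : f j ^ c' j ∣ (u : R) * ∏ i, f i ^ c i := h ▸ Finset.dvd_prod_of_mem _ (Finset.mem_univ j)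
  rw [← Finset.mul_prod_erase _ _ (Finset.mem_univ j), mul_left_comm] at h1
  have hn : ¬ f j ∣ (u : R) * ∏ i ∈ Finset.univ.erase j, f i ^ c i := fun hd => by
    rw [Units.dvd_mul_left] at hd
    obtain ⟨i, hi, hid⟩ := (hf j).exists_mem_finset_dvd hd
    exact (Finset.ne_of_mem_erase hi) (hfa i j ((hf j).associated_of_dvd (hf i) ((hf j).dvd_of_dvd_pow hid)).symm)
  exact (pow_dvd_pow_iff (hf j).ne_zero (hf j).not_isUnit).1 ((hf j).pow_dvd_of_dvd_mul_right _ hn h1)

end Groth.Agent.RegUFD52
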